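/-
Saturated systems on a group of order `p ^ 4`, exponent `p`, with centre of order `p ^ 2` and derived
subgroup of order `p` have a nontrivial normal subgroup.
-/
import Cfsg.Agent.FusionExtraCentre.Transvection
import Cfsg.Agent.FusionEssential.Aut
import Cfsg.Agent.FusionEssential.Basic
import Cfsg.Agent.FusionEssential.Chain
import Cfsg.Agent.FusionClosed.Invariant
import Cfsg.Agent.Fusion.Saturation
import Cfsg.Agent.FusionOmega.SmallOmega

set_option autoImplicit false
set_option linter.style.haveILetI false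

namespace CfsgLib.FusionExtraspecial

open Cfsg Cfsg.FusionSystem CfsgLib.Fusion
open scoped commutatorElement

/-- Powers prime to the exponent detect the identity. -/
theorem eq_one_of_pow_eq_one {G : Type*} [Group G] {p m : ℕ} (hp : p.Prime) (hm : ¬ p ∣ m) {x : G}
    (hxp : x ^ p = 1) (hxm : x ^ m = 1) : x = 1 := by
  have h := pow_gcd_eq_one.2 ⟨hxm, hxp⟩
  rwa [Nat.Coprime.gcd_eq_one ((hp.coprime_iff_not_dvd.2 hm).symm), pow_one] at h

variable {Ω : Type*} [Group Ω] {S : Subgroup Ω} {F : FusionSystem S} {p : ℕ}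

/-- Automorphisms of `S` in the system have a normal Sylow subgroup, the inner ones. -/
theorem exists_pow_mem_Inn [Finite S] [Fact p.Prime] (hS : IsPGroup p S) (hF : F.IsSaturated p) :
    ∃ m : ℕ, ¬ p ∣ m ∧ ∀ α ∈ F.autGroup S, α ^ m ∈ Inn S := by
  obtain ⟨-, T, hT⟩ := (automized_receptive hS hF isFullyNormalized_self).1
  have hInn : (Inn S).subgroupOf (F.autGroup S) = (T : Subgroup (F.autGroup S)) := by
    rw [hT, Inn_eq]
  haveI hn : ((Inn S).subgroupOf (F.autGroup S)).Normal := (Inn_normal S).comap _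
  refine ⟨((Inn S).subgroupOf (F.autGroup S)).index, ?_,
    fun α hα => ((Inn S).subgroupOf (F.autGroup S)).pow_index_mem ⟨α, hα⟩⟩
  rw [hInn]
  haveI : (T : Subgroup (F.autGroup S)).Normal := hInn ▸ hn
  exact T.not_dvd_index

/-- An essential subgroup is proper. -/
theorem ne_self_of_essential [Finite S] [Fact p.Prime] (hS : IsPGroup p S) (hF : F.IsSaturated p)
    {E : Subgroup Ω} (hess : F.IsEssential p E) : E ≠ S := by
  intro he
  obtain ⟨m, hm, hpow⟩ := exists_pow_mem_Inn hS hF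
  obtain ⟨α, ⟨k, hk⟩, hout⟩ := CfsgLib.FusionEssential.exists_pElement_not_inn hess
  subst he
  have h1 : ((α : MulAut E) ^ m) ∈ Inn E := hpow α α.2
  have h2 : (α : MulAut E) ^ (p ^ k) ∈ Inn E := by
    rw [← SubgroupClass.coe_pow, hk]
    exact one_mem _
  have hc : Nat.Coprime m (p ^ k) :=
    (((Fact.out : p.Prime).coprime_iff_not_dvd.2 hm).symm).pow_right k
  obtain ⟨a, b, hab⟩ : ∃ a b : ℤ, (m : ℤ) * a + ((p ^ k : ℕ) : ℤ) * b = 1 :=
    ⟨Nat.gcdA m (p ^ k), Nat.gcdB m (p ^ k), by rw [← Nat.gcd_eq_gcd_ab, hc]; rfl⟩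
  refine hout ?_
  rw [← zpow_one (α : MulAut E), ← hab, zpow_add, zpow_mul, zpow_mul, zpow_natCast, zpow_natCast]
  exact mul_mem (zpow_mem h1 a) (zpow_mem h2 b)

/-- The hypotheses: exponent `p`, order `p ^ 4`, centre of order `p ^ 2`, derived subgroup of order
`p`. -/
structure Setup (S : Subgroup Ω) (p : ℕ) : Prop where
  odd : Odd p
  card : Nat.card S = p ^ 4
  exp : ∀ x ∈ S, x ^ p = 1
  cardZ : Nat.card (S ⊓ Subgroup.centralizer (S : Set Ω) : Subgroup Ω) = p ^ 2
  cardC : Nat.card (⁅S, S⁆ : Subgroup Ω) = p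

variable [Finite S]

theorem commutator_le_centre [Fact p.Prime] (hS : IsPGroup p S) (h : Setup S p) :
    ⁅S, S⁆ ≤ S ⊓ Subgroup.centralizer (S : Set Ω) := by
  have hle : ⁅S, S⁆ ≤ S := S.commutator_le_self
  have hn : S ≤ Subgroup.normalizer ((⁅S, S⁆ : Subgroup Ω) : Set Ω) := fun c hc =>
    CfsgLib.FusionOmega.mem_normalizer_commutator (Subgroup.le_normalizer hc) (Subgroup.le_normalizer hc)
  have hc := CfsgLib.FusionOmega.le_centralizer_of_card_prime hS hle hn h.cardC
  exact fun z hz => ⟨hle hz, Subgroup.mem_centralizer_iff.2 fun s hs =>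
    (Subgroup.mem_centralizer_iff.1 (hc hs) z hz).symm⟩

/-- A complement to the derived subgroup in the centre fixed by an automorphism of `S` in the system
inverting the derived subgroup. -/
def IsFixedComplement (F : FusionSystem S) (p : ℕ) (W : Subgroup Ω) : Prop :=
  W ≤ S ⊓ Subgroup.centralizer (S : Set Ω) ∧ Nat.card W = p ∧
    (∀ x ∈ W, x ∈ (⁅S, S⁆ : Subgroup Ω) → x = 1) ∧
    ∃ β : MulAut S, β ∈ F.autGroup S ∧
      (∀ x : S, (x : Ω) ∈ (⁅S, S⁆ : Subgroup Ω) → ((β x : S) : Ω) = (x : Ω)⁻¹) ∧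
      ∀ x : S, (x : Ω) ∈ W → β x = x

/-- Automorphisms of `S` preserve a fixed complement, which is therefore unique. -/
theorem fixedComplement_invariant [Fact p.Prime] (hS : IsPGroup p S) (hF : F.IsSaturated p)
    (h : Setup S p) {W : Subgroup Ω} (hW : IsFixedComplement F p W) {α : MulAut S}
    (hα : α ∈ F.autGroup S) {x : S} (hx : (x : Ω) ∈ W) : ((α x : S) : Ω) ∈ W := by
  have hp : p.Prime := Fact.out
  obtain ⟨hWZ, hWc, hdisj, β, hβ, hβz, hβw⟩ := hW
  set Z : Subgroup Ω := S ⊓ Subgroup.centralizer (S : Set Ω) with hZdef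
  have hZ0 : ⁅S, S⁆ ≤ Z := commutator_le_centre hS h
  -- every central element is a product
  have hdec : ∀ y ∈ Z, ∃ a ∈ (⁅S, S⁆ : Subgroup Ω), ∃ c ∈ W, y = a * c := by
    intro y hy
    haveI := finite_of_le (S.commutator_le_self)
    haveI := finite_of_le (hWZ.trans inf_le_left)
    haveI : Finite Z := finite_of_le (S := S) inf_le_left
    let f : (⁅S, S⁆ : Subgroup Ω) × W → Z := fun q => ⟨q.1 * q.2, mul_mem (hZ0 q.1.2) (hWZ q.2.2)⟩
    have hf : Function.Injective f := by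
      rintro ⟨a, b⟩ ⟨c, d⟩ e
      have e' : (a : Ω) * b = c * d := congrArg Subtype.val e
      have e1 : (c : Ω)⁻¹ * a = d * (b : Ω)⁻¹ := by
        rw [eq_mul_inv_iff_mul_eq, mul_assoc, e', inv_mul_cancel_left]
      have h1 : (c : Ω)⁻¹ * a = 1 :=
        hdisj _ (e1 ▸ mul_mem d.2 (inv_mem b.2)) (mul_mem (inv_mem c.2) a.2)
      rw [h1, eq_comm, mul_inv_eq_one] at e1
      exact Prod.ext (Subtype.ext (inv_mul_eq_one.1 h1).symm) (Subtype.ext e1.symm)
    have hb : Function.Bijective f := (Nat.bijective_iff_injective_and_card f).2 ⟨hf, by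
      rw [Nat.card_prod, h.cardC, hWc, h.cardZ, pow_two]⟩
    obtain ⟨⟨a, c⟩, hac⟩ := hb.2 ⟨y, hy⟩
    exact ⟨a, a.2, c, c.2, (congrArg Subtype.val hac).symm⟩
  -- automorphisms preserve the centre
  have hcen : ∀ γ : MulAut S, ∀ v : S, (v : Ω) ∈ Z → ((γ v : S) : Ω) ∈ Z := by
    intro γ v hv
    refine ⟨(γ v).2, Subgroup.mem_centralizer_iff.2 fun t ht => ?_⟩
    have h1 : γ (γ.symm ⟨t, ht⟩ * v) = γ (v * γ.symm ⟨t, ht⟩) := congrArg γ (Subtype.ext
      (Subgroup.mem_centralizer_iff.1 hv.2 _ (γ.symm ⟨t, ht⟩).2))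
    rw [map_mul, map_mul, MulEquiv.apply_symm_apply] at h1
    exact congrArg Subtype.val h1
  have hcomm : ∀ γ : MulAut S, ∀ v : S, (v : Ω) ∈ (⁅S, S⁆ : Subgroup Ω) →
      ((γ v : S) : Ω) ∈ (⁅S, S⁆ : Subgroup Ω) := by
    intro γ v hv
    rw [← S.map_subtype_commutator] at hv ⊢
    obtain ⟨v', hv', hvv⟩ := hv
    obtain rfl : v' = v := Subtype.ext hvv
    refine ⟨γ v', ?_, rfl⟩
    have hc := Subgroup.Characteristic.fixed (H := commutator S) inferInstance γ
    exact hc.ge hv'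
  -- `γ := β⁻¹ * α⁻¹ * β * α` fixes `x`
  obtain ⟨a, ha, c, hc, hac⟩ := hdec _ (hcen α x (hWZ hx))
  have haS : a ∈ S := (hZ0 ha).1
  have hcS : c ∈ S := (hWZ hc).1
  have hαx : α x = (⟨a, haS⟩ : S) * ⟨c, hcS⟩ := Subtype.ext hac
  suffices ha1 : a = 1 by rw [hac, ha1, one_mul]; exact hc
  set q : S := ⟨a, haS⟩
  have hβq : β q = q⁻¹ := Subtype.ext (hβz q ha)
  have hβc : β ⟨c, hcS⟩ = ⟨c, hcS⟩ := hβw _ hc
  have h1 : β (α x) = α x * (q * q)⁻¹ := by
    rw [hαx, map_mul, hβq, hβc]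
    have hcomm' : (q : S) * ⟨c, hcS⟩ = ⟨c, hcS⟩ * q :=
      Subtype.ext (Subgroup.mem_centralizer_iff.1 (hWZ hc).2 a haS)
    rw [hcomm', mul_inv_rev, mul_assoc, mul_inv_cancel_left]
    exact (show Commute q (⟨c, hcS⟩ : S) from hcomm').inv_left.eq
  set t : S := α⁻¹ (q * q)⁻¹
  have ht : (t : Ω) ∈ (⁅S, S⁆ : Subgroup Ω) := hcomm α⁻¹ _ (inv_mem (mul_mem ha ha))
  set γ : MulAut S := β⁻¹ * (α⁻¹ * β * α)
  have hγ : γ ∈ F.autGroup S := mul_mem (inv_mem hβ) (mul_mem (mul_mem (inv_mem hα) hβ) hα)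
  have hβt : β⁻¹ t = t⁻¹ := β.injective (by
    rw [MulAut.apply_inv_self, map_inv, show β t = t⁻¹ from Subtype.ext (hβz t ht), inv_inv])
  have hγx : γ x = x * t⁻¹ := by
    show β⁻¹ (α⁻¹ (β (α x))) = _
    rw [h1, map_mul, MulAut.inv_apply_self, map_mul, hβt]
    congr 1
    conv_lhs => rw [← hβw x hx]
    exact MulAut.inv_apply_self _ β x
  have hγt : γ t = t := by
    show β⁻¹ (α⁻¹ (β (α t))) = t
    rw [show β (α t) = (α t)⁻¹ from Subtype.ext (hβz _ (hcomm α t ht)), map_inv,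
      MulAut.inv_apply_self, map_inv, hβt, inv_inv]
  have hpow : ∀ n : ℕ, (γ ^ n) x = x * t⁻¹ ^ n := by
    intro n
    induction n with
    | zero => simp
    | succ n ih => rw [pow_succ', MulAut.mul_apply, ih, map_mul, hγx, map_pow, map_inv, hγt,
        mul_assoc, ← pow_succ']
  obtain ⟨m, hm, hInn⟩ := exists_pow_mem_Inn hS hF
  have hI := hInn γ hγ
  rw [Inn_eq] at hI
  obtain ⟨s, hs, -, hsv⟩ := mem_autInducedBy_iff.1 hI
  have hxfix : (γ ^ m) x = x := Subtype.ext (by
    rw [hsv x, Subgroup.mem_centralizer_iff.1 (hWZ hx).2 s hs, mul_inv_cancel_right])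
  rw [hpow, mul_eq_left] at hxfix
  have hSp : ∀ v : S, v ^ p = 1 := fun v => Subtype.ext (h.exp v v.2)
  have ht1 : t⁻¹ = 1 := eq_one_of_pow_eq_one hp hm (hSp _) hxfix
  have hq2 : q ^ 2 = 1 := by
    have h2 : α⁻¹ (q * q) = 1 := by simpa [t] using ht1
    rw [pow_two]
    simpa using congrArg α h2
  have hq : q = 1 := eq_one_of_pow_eq_one (m := 2) hp (fun h2 => by
    have := (Nat.prime_dvd_prime_iff_eq hp Nat.prime_two).1 h2
    exact absurd (this ▸ h.odd) (by decide)) (hSp _) hq2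
  exact congrArg Subtype.val hq

/-- A fixed complement is unique. -/
theorem fixedComplement_unique [Fact p.Prime] (hS : IsPGroup p S) (hF : F.IsSaturated p)
    (h : Setup S p) {W W' : Subgroup Ω} (hW : IsFixedComplement F p W)
    (hW' : IsFixedComplement F p W') : W = W' := by
  have hp : p.Prime := Fact.out
  obtain ⟨hWZ, hWc, hdisj, β, hβ, hβz, hβw⟩ := hW
  haveI := finite_of_le (hWZ.trans inf_le_left)
  have hW'S := hW'.1.trans inf_le_left
  haveI := finite_of_le hW'S
  refine (Subgroup.eq_of_le_of_card_ge (fun x hx => ?_) (by rw [hWc, hW'.2.1])).symm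
  have hxS : x ∈ S := hW'S hx
  have hβx : ((β ⟨x, hxS⟩ : S) : Ω) ∈ W' :=
    fixedComplement_invariant hS hF h hW' hβ (x := ⟨x, hxS⟩) hx
  -- decompose `x` along `⁅S, S⁆` and `W`
  have hdec : ∃ a ∈ (⁅S, S⁆ : Subgroup Ω), ∃ c ∈ W, x = a * c := by
    haveI := finite_of_le (S.commutator_le_self)
    haveI : Finite (S ⊓ Subgroup.centralizer (S : Set Ω) : Subgroup Ω) := finite_of_le (S := S) inf_le_left
    let f : (⁅S, S⁆ : Subgroup Ω) × W → (S ⊓ Subgroup.centralizer (S : Set Ω) : Subgroup Ω) :=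
      fun q => ⟨q.1 * q.2, mul_mem (commutator_le_centre hS h q.1.2) (hWZ q.2.2)⟩
    have hf : Function.Injective f := by
      rintro ⟨a, b⟩ ⟨c, d⟩ e
      have e' : (a : Ω) * b = c * d := congrArg Subtype.val e
      have e1 : (c : Ω)⁻¹ * a = d * (b : Ω)⁻¹ := by
        rw [eq_mul_inv_iff_mul_eq, mul_assoc, e', inv_mul_cancel_left]
      have h1 : (c : Ω)⁻¹ * a = 1 :=
        hdisj _ (e1 ▸ mul_mem d.2 (inv_mem b.2)) (mul_mem (inv_mem c.2) a.2)
      rw [h1, eq_comm, mul_inv_eq_one] at e1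
      exact Prod.ext (Subtype.ext (inv_mul_eq_one.1 h1).symm) (Subtype.ext e1.symm)
    have hb : Function.Bijective f := (Nat.bijective_iff_injective_and_card f).2 ⟨hf, by
      rw [Nat.card_prod, h.cardC, hWc, h.cardZ, pow_two]⟩
    obtain ⟨⟨a, c⟩, hac⟩ := hb.2 ⟨x, hW'.1 hx⟩
    exact ⟨a, a.2, c, c.2, (congrArg Subtype.val hac).symm⟩
  obtain ⟨a, ha, c, hc, rfl⟩ := hdec
  suffices ha1 : a = 1 by rw [ha1, one_mul]; exact hc
  have haS : a ∈ S := S.commutator_le_self ha
  have hcS : c ∈ S := (hWZ hc).1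
  have hv : ((β ⟨a * c, hxS⟩ : S) : Ω) = a⁻¹ * c := by
    rw [show (⟨a * c, hxS⟩ : S) = ⟨a, haS⟩ * ⟨c, hcS⟩ from rfl, map_mul, Subgroup.coe_mul,
      hβz ⟨a, haS⟩ ha, hβw ⟨c, hcS⟩ hc]
  rw [hv] at hβx
  have h2 : (a * c) * (a⁻¹ * c)⁻¹ ∈ W' := mul_mem hx (inv_mem hβx)
  rw [show a * c * (a⁻¹ * c)⁻¹ = a * a by group] at h2
  have h3 : a ^ 2 = 1 := by rw [pow_two]; exact hW'.2.2.1 _ h2 (mul_mem ha ha)
  exact eq_one_of_pow_eq_one (m := 2) hp (fun h2 => by
    have := (Nat.prime_dvd_prime_iff_eq hp Nat.prime_two).1 h2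
    exact absurd (this ▸ h.odd) (by decide)) (h.exp a haS) h3

/-- The data attached to one essential subgroup: a complement to the derived subgroup in the centre,
preserved by the automizer, and an automorphism of `S` fixing it and inverting the derived subgroup. -/
theorem exists_data [Fact p.Prime] (hS : IsPGroup p S) (hF : F.IsSaturated p) (h : Setup S p)
    {E : Subgroup Ω} (hess : F.IsEssential p E) :
    ∃ W : Subgroup Ω, IsFixedComplement F p W ∧ W ≤ E ∧
      ∀ α ∈ F.autGroup E, ∀ x : E, (x : Ω) ∈ W → ((α x : E) : Ω) ∈ W := by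
  have hp : p.Prime := Fact.out
  set Z : Subgroup Ω := S ⊓ Subgroup.centralizer (S : Set Ω) with hZdef
  have hES : E ≤ S := hess.1.1
  haveI := finite_of_le hES
  have hEp : IsPGroup p E := hS.to_le hES
  have hZ0 : ⁅S, S⁆ ≤ Z := commutator_le_centre hS h
  have hZc : ∀ z ∈ Z, ∀ s ∈ S, s * z = z * s := fun z hz s hs =>
    Subgroup.mem_centralizer_iff.1 hz.2 s hs
  have hCE : centralizerIn S E ≤ E := centralizerIn_le_of_centric hess.1
  have hZE : Z ≤ E := fun z hz => hCE (mem_centralizerIn'.2 ⟨hz.1, fun a ha => by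
    rw [← hZc z hz a (hES ha), mul_inv_cancel_right]⟩)
  have hne : E ≠ S := ne_self_of_essential hS hF hess
  have hZne : E ≠ Z := by
    intro he
    refine hne (le_antisymm hES fun s hs => hCE (mem_centralizerIn'.2 ⟨hs, fun a ha => ?_⟩))
    rw [hZc a (he ▸ ha) s hs, mul_inv_cancel_right]
  -- the order of `E`
  have hEcard : Nat.card E = p ^ 3 := by
    obtain ⟨k, hk⟩ := IsPGroup.iff_card.1 hEp
    have h1 : Nat.card E < Nat.card S :=
      lt_of_le_of_ne (Subgroup.card_le_of_le hES) fun e => hne (Subgroup.eq_of_le_of_card_ge hES e.ge)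
    have h2 : Nat.card Z < Nat.card E :=
      lt_of_le_of_ne (Subgroup.card_le_of_le hZE) fun e =>
        hZne (Subgroup.eq_of_le_of_card_ge hZE e.ge).symm
    rw [hk, h.card] at h1
    rw [hk, h.cardZ] at h2
    have a1 := (Nat.pow_lt_pow_iff_right hp.one_lt).1 h1
    have a2 := (Nat.pow_lt_pow_iff_right hp.one_lt).1 h2
    rw [hk, show k = 3 by omega]
  have hEc : ∀ a ∈ E, ∀ b ∈ E, a * b = b * a := by
    intro a ha b hb
    by_cases haZ : a ∈ Z
    · exact (hZc a haZ b (hES hb)).symm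
    set C := E ⊓ Subgroup.centralizer ({a} : Set Ω)
    have hCle : C ≤ E := inf_le_left
    have hZC : Z ≤ C := fun z hz => ⟨hZE hz, Subgroup.mem_centralizer_iff.2 fun y hy => by
      rw [Set.mem_singleton_iff.1 hy]; exact hZc z hz a (hES ha)⟩
    have haC : a ∈ C := ⟨ha, Subgroup.mem_centralizer_iff.2 fun y hy => by
      rw [Set.mem_singleton_iff.1 hy]⟩
    haveI := finite_of_le (S := E) hCle
    obtain ⟨k, hk⟩ := IsPGroup.iff_card.1 (hEp.to_le hCle)
    have h2 : Nat.card Z < Nat.card C :=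
      lt_of_le_of_ne (Subgroup.card_le_of_le hZC) fun e =>
        haZ ((Subgroup.eq_of_le_of_card_ge hZC e.ge).ge haC)
    rw [hk, h.cardZ] at h2
    have a2 := (Nat.pow_lt_pow_iff_right hp.one_lt).1 h2
    have hCeq : C = E := Subgroup.eq_of_le_of_card_ge hCle (by
      rw [hEcard, hk]; exact Nat.pow_le_pow_right hp.pos (by omega))
    exact Subgroup.mem_centralizer_iff.1 (hCeq.ge hb).2 a rfl
  letI : CommGroup E :=
    { (inferInstance : Group E) with mul_comm := fun a b => Subtype.ext (hEc a a.2 b b.2) }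
  have hnorm : S ≤ Subgroup.normalizer (E : Set Ω) := by
    have key : ∀ s ∈ S, ∀ x ∈ E, s * x * s⁻¹ ∈ E := fun s hs x hx => by
      rw [show s * x * s⁻¹ = ⁅s, x⁆ * x by rw [commutatorElement_def, inv_mul_cancel_right]]
      exact mul_mem (hZE (hZ0 (Subgroup.commutator_mem_commutator hs (hES hx)))) hx
    intro s hs
    rw [Subgroup.mem_normalizer_iff]
    refine fun x => ⟨key s hs x, fun hx => ?_⟩
    have := key s⁻¹ (inv_mem hs) _ hx
    simpa [mul_assoc] using this
  obtain ⟨g, hgS, hgE⟩ : ∃ g ∈ S, g ∉ E := by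
    by_contra hc
    push Not at hc
    exact hne (le_antisymm hES hc)
  let u : MulAut E := E.normalizerMonoidHom ⟨g, hnorm hgS⟩
  have huval : ∀ x : E, ((u x : E) : Ω) = g * x * g⁻¹ := fun x => rfl
  have huS : u ∈ autInducedBy S E := mem_autInducedBy_iff.2 ⟨g, hgS, hnorm hgS, fun _ => rfl⟩
  have hu : u ∈ F.autGroup E := autInducedBy_le_autGroup hES huS
  have hu1 : u ≠ 1 := fun e => hgE (hCE (mem_centralizerIn'.2 ⟨hgS, fun a ha =>
    congrArg (fun φ : MulAut E => ((φ ⟨a, ha⟩ : E) : Ω)) e⟩))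
  have hup : u ^ p = 1 := by
    show (E.normalizerMonoidHom ⟨g, hnorm hgS⟩) ^ p = 1
    rw [← map_pow, show (⟨g, hnorm hgS⟩ : Subgroup.normalizer (E : Set Ω)) ^ p = 1 from
      Subtype.ext (h.exp g hgS), map_one]
  -- `Aut_S(E)` is generated by `u`
  have hAutS : autInducedBy S E = Subgroup.zpowers u := by
    refine le_antisymm ?_ (Subgroup.zpowers_le.2 huS)
    let f : S →* MulAut E := E.normalizerMonoidHom.comp (Subgroup.inclusion hnorm)
    let K : Subgroup Ω := ((Subgroup.zpowers u).comap f).map S.subtype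
    have hKS : K ≤ S := Subgroup.map_subtype_le _
    have hEK : E ≤ K := fun x hx => ⟨⟨x, hES hx⟩, by
      show f ⟨x, hES hx⟩ ∈ Subgroup.zpowers u
      have : f ⟨x, hES hx⟩ = 1 := MulEquiv.ext fun y => Subtype.ext (by
        show x * y * x⁻¹ = (y : Ω)
        rw [hEc x hx y y.2, mul_inv_cancel_right])
      rw [this]; exact one_mem _, rfl⟩
    have hgK : g ∈ K := ⟨⟨g, hgS⟩, Subgroup.mem_zpowers u, rfl⟩
    haveI := finite_of_le hKS
    obtain ⟨k, hk⟩ := IsPGroup.iff_card.1 (hS.to_le hKS)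
    have h2 : Nat.card E < Nat.card K :=
      lt_of_le_of_ne (Subgroup.card_le_of_le hEK) fun e =>
        hgE ((Subgroup.eq_of_le_of_card_ge hEK e.ge).ge hgK)
    rw [hk, hEcard] at h2
    have a2 := (Nat.pow_lt_pow_iff_right hp.one_lt).1 h2
    have hKeq : K = S := Subgroup.eq_of_le_of_card_ge hKS (by
      rw [h.card, hk]; exact Nat.pow_le_pow_right hp.pos (by omega))
    intro α hα
    obtain ⟨s, hs, hsn, hsv⟩ := mem_autInducedBy_iff.1 hα
    obtain ⟨⟨s', hs'S⟩, hs', hs''⟩ := hKeq.ge hs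
    obtain rfl : s' = s := hs''
    have : α = f ⟨s', hs'S⟩ := MulEquiv.ext fun x => Subtype.ext (hsv x)
    exact this ▸ hs'
  obtain ⟨hEfa, hEr⟩ := automized_receptive hS hF hess.2.1
  obtain ⟨-, T, hT⟩ := hEfa
  have hTcard : Nat.card (T : Subgroup (F.autGroup E)) = p := by
    rw [hT, Nat.card_congr (Subgroup.subgroupOfEquivOfLe (autInducedBy_le_autGroup hES)).toEquiv,
      hAutS, Nat.card_zpowers]
    exact orderOf_eq_prime hup hu1
  have huT : (⟨u, hu⟩ : F.autGroup E) ∈ (T : Subgroup (F.autGroup E)) := hT ▸ huS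
  -- a `p`-subgroup containing `u` is `⟨u⟩`
  have hsmall : ∀ K : Subgroup (F.autGroup E), IsPGroup p K → (⟨u, hu⟩ : F.autGroup E) ∈ K →
      ∀ a ∈ K, (a : MulAut E) ∈ Subgroup.zpowers u := by
    intro K hK huK a ha
    obtain ⟨T', hKT'⟩ := hK.exists_le_sylow
    have hc : Nat.card (T' : Subgroup (F.autGroup E)) = p := by
      rw [Sylow.card_eq_multiplicity, ← Sylow.card_eq_multiplicity T, hTcard]
    have hle : Subgroup.zpowers (⟨u, hu⟩ : F.autGroup E) ≤ (T' : Subgroup (F.autGroup E)) :=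
      Subgroup.zpowers_le.2 (hKT' huK)
    have heq := Subgroup.eq_of_le_of_card_ge hle (by
      rw [hc, Nat.card_zpowers, ← Subgroup.orderOf_coe, orderOf_eq_prime hup hu1])
    obtain ⟨i, hi⟩ := heq.ge (hKT' ha)
    exact ⟨i, congrArg Subtype.val hi⟩
  -- fixed points of `u`
  have hufix : ∀ x : E, u x = x ↔ (x : Ω) ∈ Z := by
    intro x
    refine ⟨fun hx => ?_, fun hx => Subtype.ext (by rw [huval, hZc x hx g hgS, mul_inv_cancel_right])⟩
    by_contra hxZ
    set C := E ⊓ Subgroup.centralizer ({g} : Set Ω)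
    have hCle : C ≤ E := inf_le_left
    have hZC : Z ≤ C := fun z hz => ⟨hZE hz, Subgroup.mem_centralizer_iff.2 fun y hy => by
      rw [Set.mem_singleton_iff.1 hy]; exact hZc z hz g hgS⟩
    have hxC : (x : Ω) ∈ C := ⟨x.2, Subgroup.mem_centralizer_iff.2 fun y hy => by
      rw [Set.mem_singleton_iff.1 hy]
      exact mul_inv_eq_iff_eq_mul.1 (congrArg Subtype.val hx)⟩
    haveI := finite_of_le (S := E) hCle
    obtain ⟨k, hk⟩ := IsPGroup.iff_card.1 (hEp.to_le hCle)
    have h2 : Nat.card Z < Nat.card C :=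
      lt_of_le_of_ne (Subgroup.card_le_of_le hZC) fun e =>
        hxZ ((Subgroup.eq_of_le_of_card_ge hZC e.ge).ge hxC)
    rw [hk, h.cardZ] at h2
    have a2 := (Nat.pow_lt_pow_iff_right hp.one_lt).1 h2
    have hCeq : C = E := Subgroup.eq_of_le_of_card_ge hCle (by
      rw [hEcard, hk]; exact Nat.pow_le_pow_right hp.pos (by omega))
    exact hu1 (MulEquiv.ext fun y => Subtype.ext (by
      show g * y * g⁻¹ = (y : Ω)
      rw [mul_inv_eq_iff_eq_mul]
      exact Subgroup.mem_centralizer_iff.1 (hCeq.ge y.2).2 g rfl))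
  -- a generator of the derived subgroup
  obtain ⟨z₀, hz₀, hz₀1⟩ : ∃ z ∈ (⁅S, S⁆ : Subgroup Ω), z ≠ 1 :=
    (Subgroup.bot_or_exists_ne_one _).resolve_left fun e => hp.ne_one (by
      rw [← h.cardC, e, Subgroup.card_bot])
  let z : E := ⟨z₀, hZE (hZ0 hz₀)⟩
  have hgen : ∀ y ∈ (⁅S, S⁆ : Subgroup Ω), ∃ i : ℕ, z₀ ^ i = y := by
    intro y hy
    obtain ⟨k, hk⟩ := mem_powers_of_prime_card (G := (⁅S, S⁆ : Subgroup Ω)) h.cardC
      (g := ⟨z₀, hz₀⟩) (g' := ⟨y, hy⟩) fun e => hz₀1 (congrArg Subtype.val e)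
    exact ⟨k, congrArg Subtype.val hk⟩
  have huz : u z = z := (hufix z).2 (hZ0 hz₀)
  have hux : ∀ x : E, ∃ i : ℕ, u x = x * z ^ i := by
    intro x
    obtain ⟨i, hi⟩ := hgen _ (Subgroup.commutator_mem_commutator hgS (hES x.2))
    refine ⟨i, Subtype.ext ?_⟩
    show g * x * g⁻¹ = x * z₀ ^ i
    rw [hi, ← hZc _ (hZ0 (Subgroup.commutator_mem_commutator hgS (hES x.2))) x (hES x.2) |>.symm,
      commutatorElement_def, inv_mul_cancel_right]
  have hexp : ∀ x : E, x ^ p = 1 := fun x => Subtype.ext (h.exp x (hES x.2))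
  let ZE : Subgroup E := Z.subgroupOf E
  have hZEcard : Nat.card ZE = p ^ 2 := by
    rw [Nat.card_congr (Subgroup.subgroupOfEquivOfLe hZE).toEquiv, h.cardZ]
  -- moving `z` into the centre forces normalizing `⟨u⟩`
  have hmove : ∀ α ∈ F.autGroup E, ((α z : E) : Ω) ∈ Z → α * u * α⁻¹ ∈ Subgroup.zpowers u := by
    intro α hα hαz
    set w := α * u * α⁻¹
    have hw : w ∈ F.autGroup E := mul_mem (mul_mem hα hu) (inv_mem hα)
    have hwx : ∀ x : E, ∃ i : ℕ, w x = x * (α z) ^ i := by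
      intro x
      obtain ⟨i, hi⟩ := hux (α⁻¹ x)
      refine ⟨i, ?_⟩
      show α (u (α⁻¹ x)) = _
      rw [hi, map_mul, map_pow, MulAut.apply_inv_self]
    have hwy : w (α z) = α z := by
      show α (u (α⁻¹ (α z))) = _
      rw [MulAut.inv_apply_self, huz]
    let A := Subgroup.closure ({u, w} : Set (MulAut E))
    have hAle : A ≤ F.autGroup E := (Subgroup.closure_le _).2 fun a ha => by
      rcases ha with rfl | rfl
      · exact hu
      · exact hw
    let C : ℕ → Subgroup E := fun i =>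
      if i = 0 then ⊤ else if i = 1 then ZE else if i = 2 then Subgroup.zpowers (α z) else ⊥
    have hyZE : Subgroup.zpowers (α z) ≤ ZE := Subgroup.zpowers_le.2 hαz
    have hinv₀ : ∀ a : MulAut E, a = u ∨ a = w → ∀ i, C i ≤ (C i).comap a.toMonoidHom := by
      intro a ha i
      match i with
      | 0 => exact fun x _ => trivial
      | 1 =>
        intro x hx
        show a x ∈ ZE
        rcases ha with rfl | rfl
        · rw [(hufix x).2 hx]; exact hx
        · obtain ⟨j, hj⟩ := hwx x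
          rw [hj]; exact mul_mem hx (pow_mem (hyZE (Subgroup.mem_zpowers _)) j)
      | 2 =>
        refine Subgroup.zpowers_le.2 ?_
        show a (α z) ∈ Subgroup.zpowers (α z)
        rcases ha with rfl | rfl
        · rw [(hufix _).2 hαz]; exact Subgroup.mem_zpowers _
        · rw [hwy]; exact Subgroup.mem_zpowers _
      | i + 3 =>
        intro x hx
        show a x ∈ (⊥ : Subgroup E)
        rw [show x = 1 from hx, map_one]
        exact one_mem _
    have hinv : ∀ a ∈ A, ∀ i, ∀ x ∈ C i, a x ∈ C i := by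
      intro a ha i
      induction ha using Subgroup.closure_induction with
      | mem b hb => exact fun x hx => hinv₀ b hb i hx
      | one => exact fun x hx => hx
      | mul b c _ _ hb hc => exact fun x hx => hb _ (hc _ hx)
      | inv b _ hb =>
        intro x hx
        have hle : (C i).map b.toMonoidHom ≤ C i := by
          rintro _ ⟨y, hy, rfl⟩
          exact hb y hy
        have heq := Subgroup.eq_of_le_of_card_ge hle
          (Subgroup.card_map_of_injective b.injective).ge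
        obtain ⟨y, hy, rfl⟩ := heq.ge hx
        show b⁻¹ (b y) ∈ C i
        rw [MulAut.inv_apply_self]
        exact hy
    have hgood : ∀ a : MulAut E, a = u ∨ a = w →
        (∀ x : E, x⁻¹ * a x ∈ ZE) ∧ (∀ x ∈ ZE, x⁻¹ * a x ∈ Subgroup.zpowers (α z)) ∧
          ∀ x ∈ Subgroup.zpowers (α z), x⁻¹ * a x ∈ (⊥ : Subgroup E) := by
      rintro a (rfl | rfl)
      · refine ⟨fun x => ?_, fun x hx => ?_, fun x hx => ?_⟩
        · obtain ⟨j, hj⟩ := hux x
          rw [hj, inv_mul_cancel_left]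
          exact pow_mem (show z ∈ ZE from hZ0 hz₀) j
        · rw [(hufix x).2 hx, inv_mul_cancel]; exact one_mem _
        · rw [(hufix x).2 (hyZE hx), inv_mul_cancel]; exact one_mem _
      · refine ⟨fun x => ?_, fun x hx => ?_, fun x hx => ?_⟩
        · obtain ⟨j, hj⟩ := hwx x
          rw [hj, inv_mul_cancel_left]
          exact pow_mem (show α z ∈ ZE from hαz) j
        · obtain ⟨j, hj⟩ := hwx x
          rw [hj, inv_mul_cancel_left]
          exact pow_mem (Subgroup.mem_zpowers _) j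
        · obtain ⟨j, rfl⟩ := hx
          rw [map_zpow, hwy, inv_mul_cancel]; exact one_mem _
    have hmem : ∀ a : A, ((a : MulAut E) = u ∨ (a : MulAut E) = w) →
        a ∈ CfsgLib.FusionEssential.stabChain A C 3 hinv := by
      intro a ha i hi x hx
      obtain ⟨g0, g1, g2⟩ := hgood a ha
      obtain rfl | rfl | rfl : i = 0 ∨ i = 1 ∨ i = 2 := by omega
      · exact g0 x
      · exact g1 x hx
      · exact g2 x hx
    have hK := (CfsgLib.FusionEssential.stabChain_isPGroup (A := A) (C := C) (m := 3) (hinv := hinv)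
      hEp rfl rfl).map (Subgroup.inclusion hAle)
    exact hsmall _ hK
      ⟨⟨u, Subgroup.subset_closure (Or.inl rfl)⟩, hmem _ (Or.inl rfl), rfl⟩ ⟨w, hw⟩
      ⟨⟨w, Subgroup.subset_closure (Or.inr rfl)⟩, hmem _ (Or.inr rfl), rfl⟩
  -- some conjugate of `u` is not a power of `u`
  obtain ⟨α, hα, hαu⟩ : ∃ α ∈ F.autGroup E, α * u * α⁻¹ ∉ Subgroup.zpowers u := by
    by_contra hc
    push Not at hc
    have hTn : (T : Subgroup (F.autGroup E)).Normal := by
      refine ⟨fun a ha γ => ?_⟩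
      rw [hT, Subgroup.mem_subgroupOf, hAutS] at ha ⊢
      obtain ⟨i, hi⟩ := ha
      show (γ : MulAut E) * (a : MulAut E) * (γ : MulAut E)⁻¹ ∈ _
      rw [← hi, ← conj_zpow]
      exact zpow_mem (hc γ γ.2) i
    obtain ⟨a, b, ⟨i, ha⟩, ⟨j, hb⟩, hab⟩ := CfsgLib.FusionEssential.exists_noncommute_pElements hess
    have key : ∀ c : F.autGroup E, (∃ k : ℕ, c ^ (p ^ k) = 1) →
        (c : MulAut E) ∈ Subgroup.zpowers u := by
      rintro c ⟨k, hk⟩
      have hcp : IsPGroup p (Subgroup.zpowers c) := by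
        rintro ⟨_, l, rfl⟩
        refine ⟨k, Subtype.ext ?_⟩
        show (c ^ l) ^ (p ^ k) = 1
        rw [← zpow_natCast, ← zpow_mul, mul_comm, zpow_mul, zpow_natCast, hk, one_zpow]
      obtain ⟨T', hT'⟩ := hcp.exists_le_sylow
      letI := Sylow.unique_of_normal T hTn
      haveI : Subsingleton (Sylow p (F.autGroup E)) := inferInstance
      have := hT' (Subgroup.mem_zpowers c)
      rw [Subsingleton.elim T' T, hT, Subgroup.mem_subgroupOf, hAutS] at this
      exact this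
    obtain ⟨i', hi'⟩ := key a ⟨i, ha⟩
    obtain ⟨j', hj'⟩ := key b ⟨j, hb⟩
    refine hab (Subtype.ext ?_)
    show (a : MulAut E) * (b : MulAut E) = (b : MulAut E) * (a : MulAut E)
    rw [← hi', ← hj', ← zpow_add, ← zpow_add, add_comm]
  have mk : ∀ α ∈ F.autGroup E, α * u * α⁻¹ ∉ Subgroup.zpowers u →
      ∃ W : Subgroup Ω, IsFixedComplement F p W ∧
        ∀ x : E, (x : Ω) ∈ W ↔ (x : Ω) ∈ Z ∧ (α * u * α⁻¹) x = x := by
    intro α hα hαu
    set y := α z
    have hyZ : (y : Ω) ∉ Z := fun hy => hαu (hmove α hα hy)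
    have hzy : ((α⁻¹ z : E) : Ω) ∉ Z := by
      intro hy
      obtain ⟨i, hi⟩ := hmove α⁻¹ (inv_mem hα) hy
      simp only at hi
      rw [inv_inv] at hi
      have hi1 : (u ^ i) ≠ 1 := fun e => hu1 (by
        have h1 : u = α * u ^ i * α⁻¹ := by rw [hi]; group
        rw [e] at h1; rw [h1]; group)
      have hord : orderOf u = p := orderOf_eq_prime hup hu1
      have heq : Subgroup.zpowers (u ^ i) = Subgroup.zpowers u := by
        haveI : Finite (Subgroup.zpowers u) := Nat.finite_of_card_ne_zero (by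
          rw [Nat.card_zpowers, hord]; exact hp.ne_zero)
        refine Subgroup.eq_of_le_of_card_ge (Subgroup.zpowers_le.2 ⟨i, rfl⟩) ?_
        rw [Nat.card_zpowers, Nat.card_zpowers, hord,
          orderOf_eq_prime (x := u ^ i) (by
            rw [← zpow_natCast, ← zpow_mul, mul_comm, zpow_mul, zpow_natCast, hup, one_zpow]) hi1]
      obtain ⟨j, hj⟩ := heq.ge (Subgroup.mem_zpowers u)
      refine hαu ⟨j, ?_⟩
      simp only at hj
      rw [hi, show α⁻¹ * u * α = α⁻¹ * u * α⁻¹⁻¹ by rw [inv_inv], conj_zpow, inv_inv] at hj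
      calc u ^ j = α * (α⁻¹ * u ^ j * α) * α⁻¹ := by group
        _ = α * u * α⁻¹ := congrArg (fun v => α * v * α⁻¹) hj
    set w := α * u * α⁻¹
    have hw : w ∈ F.autGroup E := mul_mem (mul_mem hα hu) (inv_mem hα)
    have hwfix : ∀ x : E, w x = x ↔ ((α⁻¹ x : E) : Ω) ∈ Z := by
      intro x
      rw [← hufix]
      show α (u (α⁻¹ x)) = x ↔ _
      constructor
      · intro e
        exact (MulAut.inv_apply_self _ α _).symm.trans (congrArg (fun v => α⁻¹ v) e)
      · intro e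
        rw [e, MulAut.apply_inv_self]
    have hwy : w y = y := (hwfix y).2 (by rw [MulAut.inv_apply_self]; exact hZ0 hz₀)
    have hwx : ∀ x : E, ∃ i : ℕ, w x = x * y ^ i := by
      intro x
      obtain ⟨i, hi⟩ := hux (α⁻¹ x)
      refine ⟨i, ?_⟩
      show α (u (α⁻¹ x)) = _
      rw [hi, map_mul, map_pow, MulAut.apply_inv_self]
    obtain ⟨r, hr, hrz, -, hru⟩ := CfsgLib.FusionExtraCentre.exists_inverting (p := p)
      (A := Subgroup.closure ({u, w} : Set (MulAut E))) hexp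
      (Subgroup.subset_closure (Or.inl rfl)) (Subgroup.subset_closure (Or.inr rfl)) huz hwy hux hwx
      (fun e => hyZ ((hufix y).1 e)) (fun e => hzy ((hwfix z).1 e))
    have hr' : r ∈ F.autGroup E := (Subgroup.closure_le (K := F.autGroup E)).2 (by
      rintro a (rfl | rfl)
      · exact hu
      · exact hw) hr
    -- the fixed points
    let W₀ : Subgroup E := ZE ⊓ (MonoidHom.eqLocus w.toMonoidHom (MonoidHom.id E))
    have hW₀ : ∀ x : E, x ∈ W₀ ↔ (x : Ω) ∈ Z ∧ w x = x := fun x => Iff.rfl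
    let W : Subgroup Ω := W₀.map E.subtype
    have hWZ : W ≤ Z := by rintro _ ⟨x, hx, rfl⟩; exact hx.1
    have hWE : W ≤ E := Subgroup.map_subtype_le _
    have hWcard : Nat.card W = p := by
      rw [Subgroup.card_map_of_injective E.subtype_injective]
      obtain ⟨k, hk⟩ := IsPGroup.iff_card.1 (hEp.to_subgroup W₀)
      have hlt : Nat.card W₀ < p ^ 2 := by
        rw [← hZEcard]
        refine lt_of_le_of_ne (Subgroup.card_le_of_le inf_le_left) fun e => ?_
        have h1 : z ∈ W₀ := (Subgroup.eq_of_le_of_card_ge (inf_le_left : W₀ ≤ ZE) e.ge).ge (hZ0 hz₀)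
        exact hzy ((hwfix z).1 h1.2)
      let FW : Subgroup E := ZE.map α.toMonoidHom
      have hFW : ∀ x ∈ FW, w x = x := by
        rintro _ ⟨v, hv, rfl⟩
        exact (hwfix _).2 (by show ((α⁻¹ (α v) : E) : Ω) ∈ Z; rw [MulAut.inv_apply_self]; exact hv)
      have hlow : 1 < Nat.card W₀ := by
        by_contra hc
        push Not at hc
        have hle : (ZE ⊓ FW) ≤ W₀ := fun x hx => ⟨hx.1, hFW x hx.2⟩
        have hbot : ZE ⊓ FW = ⊥ := Subgroup.card_eq_one.1 (le_antisymm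
          ((Subgroup.card_le_of_le hle).trans hc) Nat.card_pos)
        have hinj : Function.Injective (fun q : ZE × FW => (q.1 : E) * (q.2 : E)) := by
          rintro ⟨a, b⟩ ⟨c, d⟩ e
          simp only at e
          have e1 : (c : E)⁻¹ * a = d * (b : E)⁻¹ := by
            rw [eq_mul_inv_iff_mul_eq, mul_assoc, e, inv_mul_cancel_left]
          have : (c : E)⁻¹ * a ∈ ZE ⊓ FW :=
            ⟨mul_mem (ZE.inv_mem c.2) a.2, e1 ▸ mul_mem d.2 (FW.inv_mem b.2)⟩
          rw [hbot, Subgroup.mem_bot] at this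
          rw [this, eq_comm, mul_inv_eq_one] at e1
          exact Prod.ext (Subtype.ext (inv_mul_eq_one.1 this).symm) (Subtype.ext e1.symm)
        have hle2 := Nat.card_le_card_of_injective _ hinj
        rw [Nat.card_prod, Subgroup.card_map_of_injective α.injective, hZEcard, hEcard, ← pow_add] at hle2
        have := (Nat.pow_le_pow_iff_right hp.one_lt).1 hle2
        omega
      rw [hk] at hlt hlow ⊢
      have a1 := (Nat.pow_lt_pow_iff_right hp.one_lt).1 hlt
      have hk0 : k ≠ 0 := fun e => by rw [e, pow_zero] at hlow; exact lt_irrefl _ hlow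
      rw [show k = 1 by omega, pow_one]
    have hdisj : ∀ x ∈ W, x ∈ (⁅S, S⁆ : Subgroup Ω) → x = 1 := by
      rintro _ ⟨x, hx, rfl⟩ hx0
      by_contra hne1
      obtain ⟨i, hi⟩ : ∃ i : ℕ, x ^ i = z := by
        obtain ⟨k, hk⟩ := mem_powers_of_prime_card (G := (⁅S, S⁆ : Subgroup Ω)) h.cardC
          (g := ⟨_, hx0⟩) (g' := ⟨z₀, hz₀⟩) fun e => hne1 (congrArg Subtype.val e)
        exact ⟨k, Subtype.ext (congrArg Subtype.val hk :)⟩
      refine hzy ((hwfix z).1 ?_)
      rw [← hi, map_pow, (show w x = x from hx.2)]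
    -- extend `r` to `S`
    have hriso : IsIso F r := (mem_autGroup_iff hES).1 hr'
    have hrfix : ∀ x ∈ W₀, r x = x := by
      suffices hall : ∀ r' ∈ Subgroup.closure ({u, w} : Set (MulAut E)), ∀ x ∈ W₀, r' x = x from
        fun x hx => hall r hr x hx
      intro r' hr' x hx
      induction hr' using Subgroup.closure_induction with
      | mem a ha =>
        rcases ha with rfl | rfl
        · exact (hufix x).2 hx.1
        · exact hx.2
      | one => rfl
      | mul a b _ _ ha hb => rw [MulAut.mul_apply, hb, ha]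
      | inv a _ ha => exact (congrArg (fun v => a⁻¹ v) ha).symm.trans (MulAut.inv_apply_self _ a x)
    have hle : S ≤ extender S E (E.subtype.comp r.toMonoidHom) := by
      have hg : g ∈ extender S E (E.subtype.comp r.toMonoidHom) :=
        mem_extender_iff.2 ⟨hgS, hnorm hgS, g, hgS, fun a ha => by
          show ((r ⟨g * a * g⁻¹, ha⟩ : E) : Ω) = g * ((r a : E) : Ω) * g⁻¹
          rw [← huval (r a), ← hru a]
          rfl⟩
      set X := extender S E (E.subtype.comp r.toMonoidHom)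
      have hXS : X ≤ S := (extender_le_normalizerIn _).trans (normalizerIn_le S E)
      have hEX : E ≤ X := le_extender hES fun a => hES (r a).2
      haveI := finite_of_le hXS
      obtain ⟨k, hk⟩ := IsPGroup.iff_card.1 (hS.to_le hXS)
      have h2 : Nat.card E < Nat.card X :=
        lt_of_le_of_ne (Subgroup.card_le_of_le hEX) fun e =>
          hgE ((Subgroup.eq_of_le_of_card_ge hEX e.ge).ge hg)
      rw [hk, hEcard] at h2
      have a2 := (Nat.pow_lt_pow_iff_right hp.one_lt).1 h2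
      exact (Subgroup.eq_of_le_of_card_ge hXS (by
        rw [h.card, hk]; exact Nat.pow_le_pow_right hp.pos (by omega))).ge
    obtain ⟨ψ, hψ, hψr⟩ := exists_extension hEr hriso hle
    obtain ⟨β, hβ, hβv⟩ := exists_iso hψ (eq_S_of_isConj ⟨ψ, hψ, rfl⟩)
    have hβE : ∀ (x : S) (hx : (x : Ω) ∈ E), ((β x : S) : Ω) = ((r ⟨x, hx⟩ : E) : Ω) := fun x hx =>
      (hβv x).trans (hψr ⟨x, hx⟩ x.2)
    refine ⟨W, ⟨hWZ, hWcard, hdisj, β, hβ.mem_autGroup, fun x hx => ?_, fun x hx => ?_⟩,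
      fun x => ⟨fun ⟨v, hv, hvx⟩ => ?_, fun hx => ⟨x, hx, rfl⟩⟩⟩
    · have hxE : (x : Ω) ∈ E := hZE (hZ0 hx)
      rw [hβE x hxE]
      obtain ⟨i, hi⟩ := hgen x hx
      rw [show (⟨x, hxE⟩ : E) = z ^ i from Subtype.ext hi.symm, map_pow, hrz, inv_pow]
      show ((z ^ i : E) : Ω)⁻¹ = _
      rw [show ((z ^ i : E) : Ω) = x from hi]
    · obtain ⟨x', hx', hxx⟩ := hx
      refine Subtype.ext ((hβE x (hxx ▸ x'.2)).trans ?_)
      rw [show (⟨(x : Ω), hxx ▸ x'.2⟩ : E) = x' from Subtype.ext hxx.symm, hrfix x' hx']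
      exact hxx
    · obtain rfl : v = x := Subtype.ext hvx
      exact hv
  obtain ⟨W, hW, hWmem⟩ := mk α hα hαu
  refine ⟨W, hW, fun v hv => hZE (hW.1 hv), fun γ hγ x hx => ?_⟩
  -- every conjugate of `u` fixes `W`
  have hfix : ∀ δ ∈ F.autGroup E, (δ * u * δ⁻¹) x = x := by
    intro δ hδ
    by_cases hδu : δ * u * δ⁻¹ ∈ Subgroup.zpowers u
    · obtain ⟨i, hi⟩ := hδu
      rw [← hi]
      exact MulAction.mem_stabilizer_iff.1
        (zpow_mem (MulAction.mem_stabilizer_iff.2 ((hufix x).2 (hW.1 hx)) :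
          u ∈ MulAction.stabilizer (MulAut E) x) i)
    · obtain ⟨W', hW', hW'mem⟩ := mk δ hδ hδu
      rw [fixedComplement_unique hS hF h hW hW'] at hx
      exact ((hW'mem x).1 hx).2
  refine (hWmem _).2 ⟨(hufix _).1 ?_, ?_⟩
  · have h1 := congrArg γ (hfix γ⁻¹ (inv_mem hγ))
    simpa using h1
  · have h1 := congrArg γ (hfix (γ⁻¹ * α) (mul_mem (inv_mem hγ) hα))
    simpa using h1

/-- Such a system has a nontrivial normal subgroup. -/
theorem exists_normal_subgroup [Fact p.Prime] (hS : IsPGroup p S) (hF : F.IsSaturated p)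
    (h : Setup S p) : ∃ W : Subgroup Ω, F.IsNormal W ∧ W ≠ ⊥ := by
  have hp : p.Prime := Fact.out
  set Z : Subgroup Ω := S ⊓ Subgroup.centralizer (S : Set Ω)
  have hconj : ∀ g ∈ S, ∀ x ∈ Z, g * x * g⁻¹ = x := fun g hg x hx => by
    rw [Subgroup.mem_centralizer_iff.1 hx.2 g hg, mul_inv_cancel_right]
  by_cases he : ∃ E, F.IsEssential p E
  · obtain ⟨E, hE⟩ := he
    obtain ⟨W, hW, -, -⟩ := exists_data hS hF h hE
    refine ⟨W, CfsgLib.FusionClosed.isNormal_of_invariant hS hF (hW.1.trans inf_le_left)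
      (fun g hg x hx => by rw [hconj g hg x (hW.1 hx)]; exact hx) (fun P hP => ?_) ?_, fun e => ?_⟩
    · obtain ⟨W', hW', hW'P, -⟩ := exists_data hS hF h hP
      exact fixedComplement_unique hS hF h hW' hW ▸ hW'P
    · rintro P (rfl | hP) α hα x hx
      · exact fixedComplement_invariant hS hF h hW hα hx
      · obtain ⟨W', hW', -, hinv⟩ := exists_data hS hF h hP
        rw [fixedComplement_unique hS hF h hW hW'] at hx ⊢
        exact hinv α hα x hx
    · exact hp.ne_one (by rw [← hW.2.1, e, Subgroup.card_bot])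
  · refine ⟨Z, CfsgLib.FusionClosed.isNormal_of_invariant hS hF inf_le_left
      (fun g hg x hx => by rw [hconj g hg x hx]; exact hx) (fun P hP => absurd ⟨P, hP⟩ he) ?_,
      fun e => ?_⟩
    · rintro P (rfl | hP) α hα x hx
      · refine ⟨(α x).2, Subgroup.mem_centralizer_iff.2 fun t ht => ?_⟩
        have h1 : α (α.symm ⟨t, ht⟩ * x) = α (x * α.symm ⟨t, ht⟩) := congrArg α (Subtype.ext
          (Subgroup.mem_centralizer_iff.1 hx.2 _ (α.symm ⟨t, ht⟩).2))
        rw [map_mul, map_mul, MulEquiv.apply_symm_apply] at h1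
        exact congrArg Subtype.val h1
      · exact absurd ⟨P, hP⟩ he
    · exact (Nat.one_lt_pow two_ne_zero hp.one_lt).ne' (by
        rw [← h.cardZ, show (S ⊓ Subgroup.centralizer (S : Set Ω) : Subgroup Ω) = ⊥ from e,
          Subgroup.card_bot])

end CfsgLib.FusionExtraspecial
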