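/-
The centre of a group with an extraspecial subgroup of index `p` supporting a saturated system with
trivial core.
-/
import Cfsg.Agent.FusionExtraspecial.Small
import Cfsg.Agent.FusionExtraCentre.Main
import Cfsg.Agent.ExtraspecialBasic.Order

set_option autoImplicit false
set_option linter.style.haveILetI false

namespace CfsgLib.FusionExtraspecial

open Cfsg Cfsg.FusionSystem CfsgLib.Fusion
open scoped commutatorElement Pointwise

variable {Ω : Type*} [Group Ω]

/-- The centre of a subgroup, in the ambient group. -/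
theorem map_center (H : Subgroup Ω) :
    (Subgroup.center H).map H.subtype = H ⊓ Subgroup.centralizer (H : Set Ω) := by
  ext x
  constructor
  · rintro ⟨y, hy, rfl⟩
    exact ⟨y.2, Subgroup.mem_centralizer_iff.2 fun a ha =>
      congrArg Subtype.val (Subgroup.mem_center_iff.1 hy ⟨a, ha⟩)⟩
  · rintro ⟨hx, hx'⟩
    exact ⟨⟨x, hx⟩, Subgroup.mem_center_iff.2 fun a =>
      Subtype.ext (Subgroup.mem_centralizer_iff.1 hx' a a.2), rfl⟩

theorem centre_eq {S : Subgroup Ω} [Finite S] (p : ℕ) [Fact p.Prime] (hp : Odd p) (hS : IsPGroup p S)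
    (Q : Subgroup Ω) (hQS : Q ≤ S) (hQ : Cfsg.IsExtraspecial p ↥Q) (hQi : (Q.subgroupOf S).index = p)
    (F : Cfsg.FusionSystem S) (hF : F.IsSaturated p) (hO : F.core = ⊥) :
    S ⊓ Subgroup.centralizer (S : Set Ω) = Q ⊓ Subgroup.centralizer (Q : Set Ω) := by
  have hpp : p.Prime := Fact.out
  haveI := finite_of_le hQS
  set ZS : Subgroup Ω := S ⊓ Subgroup.centralizer (S : Set Ω) with hZS
  set ZQ : Subgroup Ω := Q ⊓ Subgroup.centralizer (Q : Set Ω) with hZQ
  have hZQcard : Nat.card ZQ = p := by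
    rw [hZQ, ← map_center, Subgroup.card_map_of_injective Q.subtype_injective, hQ.2]
  haveI hQn : (Q.subgroupOf S).Normal := by
    haveI : Nontrivial S := by
      by_contra hc
      haveI : Subsingleton S := not_nontrivial_iff_subsingleton.1 hc
      have := Subgroup.index_dvd_card (Q.subgroupOf S)
      rw [hQi, Nat.card_of_subsingleton (1 : S), Nat.dvd_one] at this
      exact hpp.ne_one this
    refine Subgroup.normal_of_index_eq_minFac_card ?_
    obtain ⟨k, hk⟩ := IsPGroup.iff_card.1 hS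
    have hk0 : k ≠ 0 := fun e => by
      have := Finite.one_lt_card (α := S)
      rw [hk, e, pow_zero] at this
      exact lt_irrefl _ this
    rw [hQi, hk, hpp.pow_minFac hk0]
  have hQconj : ∀ g ∈ S, ∀ x ∈ Q, g * x * g⁻¹ ∈ Q := fun g hg x hx =>
    hQn.conj_mem ⟨x, hQS hx⟩ hx ⟨g, hg⟩
  have hQnorm : S ≤ Subgroup.normalizer (Q : Set Ω) := fun g hg => by
    rw [Subgroup.mem_normalizer_iff]
    refine fun x => ⟨hQconj g hg x, fun hx => ?_⟩
    simpa [mul_assoc] using hQconj g⁻¹ (inv_mem hg) _ hx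
  -- the centre of `Q` is central in `S`
  have hZQS : ZQ ≤ ZS := by
    have hn : S ≤ Subgroup.normalizer (ZQ : Set Ω) := by
      have key : ∀ g ∈ S, ∀ x ∈ ZQ, g * x * g⁻¹ ∈ ZQ := fun g hg x hx => by
        refine ⟨hQconj g hg x hx.1, Subgroup.mem_centralizer_iff.2 fun a ha => ?_⟩
        have h1 := Subgroup.mem_centralizer_iff.1 hx.2 (g⁻¹ * a * g)
          (by simpa using hQconj g⁻¹ (inv_mem hg) a ha)
        calc a * (g * x * g⁻¹) = g * ((g⁻¹ * a * g) * x) * g⁻¹ := by group
          _ = g * (x * (g⁻¹ * a * g)) * g⁻¹ := by rw [h1]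
          _ = g * x * g⁻¹ * a := by group
      intro g hg
      rw [Subgroup.mem_normalizer_iff]
      refine fun x => ⟨key g hg x, fun hx => ?_⟩
      simpa [mul_assoc] using key g⁻¹ (inv_mem hg) _ hx
    have hc := CfsgLib.FusionOmega.le_centralizer_of_card_prime hS (inf_le_left.trans hQS) hn hZQcard
    exact fun z hz => ⟨hQS hz.1, Subgroup.mem_centralizer_iff.2 fun s hs =>
      (Subgroup.mem_centralizer_iff.1 (hc hs) z hz).symm⟩
  refine le_antisymm ?_ hZQS
  by_contra hle
  have hinf : ∀ z ∈ ZS, z ∈ Q → z ∈ ZQ := fun z hz hzQ =>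
    ⟨hzQ, Subgroup.mem_centralizer_iff.2 fun a ha => Subgroup.mem_centralizer_iff.1 hz.2 a (hQS ha)⟩
  obtain ⟨z₀, hz₀, hz₀Q⟩ : ∃ z ∈ ZS, z ∉ Q := by
    by_contra hc
    push Not at hc
    exact hle fun z hz => hinf z hz (hc z hz)
  -- `|Z(S)| = p²`
  have hZScard : Nat.card ZS = p ^ 2 := by
    have hrel : (Q.subgroupOf S).relIndex (ZS.subgroupOf S) = p := by
      refine ((Nat.dvd_prime hpp).1 ?_).resolve_left fun e => ?_
      · have := Subgroup.relIndex_dvd_index_of_normal (Q.subgroupOf S) (ZS.subgroupOf S)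
        rwa [hQi] at this
      · exact hz₀Q (Subgroup.relIndex_eq_one.1 e (x := ⟨z₀, hz₀.1⟩) hz₀)
    rw [Subgroup.relIndex_subgroupOf inf_le_left] at hrel
    have h1 := Subgroup.card_mul_index (Q.subgroupOf ZS)
    have h2 : Nat.card (Q.subgroupOf ZS) = p := by
      rw [← Subgroup.card_map_of_injective ZS.subtype_injective, Subgroup.subgroupOf_map_subtype,
        show Q ⊓ ZS = ZQ from le_antisymm (fun x hx => hinf x hx.2 hx.1)
          fun x hx => ⟨hx.1, hZQS hx⟩, hZQcard]
    rw [h2, show (Q.subgroupOf ZS).index = p from hrel] at h1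
    rw [← h1, pow_two]
  -- `S = Q Z(S)`
  have hsup : Q ⊔ ZS = S := by
    refine le_antisymm (sup_le hQS inf_le_left) ?_
    have h : (Q ⊔ ZS).subgroupOf S = ⊤ := by
      rw [← Subgroup.index_eq_one]
      have hle : Q.subgroupOf S ≤ (Q ⊔ ZS).subgroupOf S := fun x hx => Subgroup.mem_sup_left (T := ZS) hx
      have hd := Subgroup.index_dvd_of_le hle
      rw [hQi] at hd
      refine ((Nat.dvd_prime hpp).1 hd).resolve_right fun e => hz₀Q ?_
      have heq : Q.subgroupOf S = (Q ⊔ ZS).subgroupOf S :=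
        Subgroup.eq_of_le_of_card_ge hle (by
          have h1 := Subgroup.card_mul_index (Q.subgroupOf S)
          have h2 := Subgroup.card_mul_index ((Q ⊔ ZS).subgroupOf S)
          rw [hQi] at h1
          rw [e] at h2
          exact (Nat.eq_of_mul_eq_mul_right hpp.pos (h2.trans h1.symm)).le)
      exact heq.ge (x := ⟨z₀, hz₀.1⟩) (Subgroup.mem_sup_right (S := Q) hz₀)
    exact Subgroup.subgroupOf_eq_top.1 h
  have hprod : ∀ s ∈ S, ∃ q ∈ Q, ∃ z ∈ ZS, s = q * z := by
    intro s hs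
    have h1 : s ∈ (Q : Set Ω) * (ZS : Set Ω) := by
      rw [← Subgroup.coe_mul_of_right_le_normalizer_left Q ZS ((inf_le_left).trans hQnorm), hsup]
      exact hs
    obtain ⟨q, hq, z, hz, rfl⟩ := h1
    exact ⟨q, hq, z, hz, rfl⟩
  -- derived subgroup and powers
  have hQQ : ⁅Q, Q⁆ = ZQ := by rw [← Q.map_subtype_commutator, hQ.1.2.2, map_center]
  have hSS : ⁅S, S⁆ = ZQ := by
    refine le_antisymm (Subgroup.commutator_le.2 fun a ha b hb => ?_)
      (hQQ.symm.le.trans (Subgroup.commutator_mono hQS hQS))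
    obtain ⟨q, hq, z, hz, rfl⟩ := hprod a ha
    obtain ⟨q', hq', z', hz', rfl⟩ := hprod b hb
    have e : ⁅q * z, q' * z'⁆ = ⁅q, q'⁆ := by
      have c1 : ∀ t ∈ S, Commute z t := fun t ht => (Subgroup.mem_centralizer_iff.1 hz.2 t ht).symm
      have c2 : ∀ t ∈ S, Commute z' t := fun t ht => (Subgroup.mem_centralizer_iff.1 hz'.2 t ht).symm
      calc ⁅q * z, q' * z'⁆ = q * (z * (q' * z') * z⁻¹) * q⁻¹ * (q' * z')⁻¹ := by
            simp only [commutatorElement_def]; group
        _ = q * (q' * z') * q⁻¹ * (q' * z')⁻¹ := by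
            rw [(c1 _ (mul_mem (hQS hq') hz'.1)).eq, mul_inv_cancel_right]
        _ = q * q' * (z' * q⁻¹ * z'⁻¹) * q'⁻¹ := by group
        _ = ⁅q, q'⁆ := by
            rw [(c2 _ (inv_mem (hQS hq))).eq, mul_inv_cancel_right, commutatorElement_def]
    rw [e, ← hQQ]
    exact Subgroup.commutator_mem_commutator hq hq'
  have hpow : ∀ s ∈ S, s ^ p ∈ ZQ := by
    intro s hs
    obtain ⟨q, hq, z, hz, rfl⟩ := hprod s hs
    rw [(show Commute q z from Subgroup.mem_centralizer_iff.1 hz.2 q (hQS hq)).mul_pow]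
    refine mul_mem ?_ (hinf _ (pow_mem hz p) ?_)
    · rw [hZQ, ← map_center]
      exact ⟨_, CfsgLib.ExtraspecialBasic.pow_mem_center hQ ⟨q, hq⟩, rfl⟩
    · have := (Q.subgroupOf S).pow_index_mem ⟨z, hz.1⟩
      rw [hQi] at this
      exact this
  have hmapc : (commutator ↥S).map S.subtype = ZQ := by rw [S.map_subtype_commutator, hSS]
  have hccard : Nat.card (commutator ↥S) = p := by
    rw [← Subgroup.card_map_of_injective S.subtype_injective, hmapc, hZQcard]
  have hmemc : ∀ x : S, (x : Ω) ∈ ZQ → x ∈ commutator ↥S := by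
    intro x hx
    rw [← hmapc] at hx
    exact (Subgroup.mem_map_iff_mem S.subtype_injective).1 hx
  have hfr : frattini ↥S = commutator ↥S :=
    le_antisymm (CfsgLib.Solvable.frattini_le_of_elementary le_rfl
      fun x => hmemc (x ^ p) (hpow x x.2)) (CfsgLib.Solvable.commutator_le_frattini hS)
  have hsc : F.StronglyClosed S := ⟨le_rfl, fun R _ φ hφ x => (F.le_of_mem hφ).2 x⟩
  by_cases hex : ∃ (E : Type) (_ : Group E) (A : Type) (_ : CommGroup A),
      IsExtraspecial p E ∧ Nat.card E = p ^ 3 ∧ Monoid.exponent E = p ∧ (∀ a : A, a ^ p = 1) ∧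
      Nonempty (↥S ≃* E × A)
  · obtain ⟨E, _, A, _, hE, hEc, hEe, hAe, ⟨e⟩⟩ := hex
    have hmc : Nat.card (Subgroup.center (E × A)) = Nat.card (Subgroup.center S) :=
      (Nat.card_congr (Subgroup.centerCongr e).toEquiv).symm
    rw [Subgroup.center_prod, Nat.card_congr (Subgroup.prodEquiv _ _).toEquiv, Nat.card_prod, hE.2,
      CommGroup.center_eq_top, Subgroup.card_top, ← Subgroup.card_map_of_injective S.subtype_injective,
      map_center, hZScard, pow_two] at hmc
    have hA : Nat.card A = p := Nat.eq_of_mul_eq_mul_left hpp.pos hmc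
    have hsetup : Setup S p := by
      refine ⟨hp, ?_, fun x hx => ?_, hZScard, by rw [hSS, hZQcard]⟩
      · rw [Nat.card_congr e.toEquiv, Nat.card_prod, hEc, hA, ← pow_succ]
      · refine congrArg Subtype.val (e.injective (a₁ := (⟨x, hx⟩ : S) ^ p) (a₂ := 1) ?_)
        rw [map_pow, map_one]
        refine Prod.ext ?_ (hAe _)
        show (e ⟨x, hx⟩).1 ^ p = 1
        rw [← hEe]
        exact Monoid.pow_exponent_eq_one _
    obtain ⟨W, hW, hne⟩ := exists_normal_subgroup hS hF hsetup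
    exact hne (le_bot_iff.1 (hO ▸ (le_sSup hW : W ≤ F.core)))
  · have hN := CfsgLib.FusionExtraCentre.isNormal_of_commutator_prime hS hF hsc hfr hccard
      (fun h => absurd (h ▸ hp) (by decide)) (fun _ => hex)
    have hb : S = ⊥ := le_bot_iff.1 (hO ▸ (le_sSup hN : S ≤ F.core))
    exact hz₀Q (by
      have : z₀ = 1 := Subgroup.mem_bot.1 (hb ▸ hz₀.1)
      rw [this]; exact one_mem _)

end CfsgLib.FusionExtraspecial
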