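/-
No proper subgroup of an extraspecial subgroup of index `p` is essential.
-/
import Cfsg.Agent.FusionExtraspecial.Centre
import Cfsg.Agent.ExtraspecialBasic.DoubleCentralizer
import Cfsg.Agent.EvenType.StronglyEmbedded
import Cfsg.Agent.Fusion.StronglyEmbedded

set_option autoImplicit false
set_option linter.style.haveILetI false

namespace CfsgLib.FusionExtraspecial

open Cfsg Cfsg.FusionSystem CfsgLib.Fusion
open scoped commutatorElement

/-- A strongly `p`-embedded subgroup does not contain all conjugates of a nontrivial `p`-subgroup. -/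
theorem false_of_conjugates_le {X : Type*} [Group X] [Finite X] {p : ℕ} [Fact p.Prime]
    {Y T : Subgroup X} (hY : IsStronglyPEmbedded p Y) (hT : IsPGroup p T) (hne : T ≠ ⊥)
    (h : ∀ x : X, ∀ t ∈ T, x * t * x⁻¹ ∈ Y) : False := by
  set N := Subgroup.normalClosure (T : Set X)
  have hTN : T ≤ N := fun t ht => Subgroup.subset_normalClosure ht
  have hNY : N ≤ Y := (Subgroup.closure_le Y).2 fun a ha => by
    obtain ⟨t, ht, hta⟩ := Group.mem_conjugatesOfSet_iff.1 ha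
    obtain ⟨x, rfl⟩ := isConj_iff.1 hta
    exact h x t ht
  let R : Sylow p N := default
  have hRne : (R : Subgroup N) ≠ ⊥ := by
    refine R.ne_bot_of_dvd_card ?_
    exact (hT.card_eq_or_dvd.resolve_left fun e => hne (Subgroup.card_eq_one.1 e)).trans
      (Subgroup.card_dvd_of_le hTN)
  have hRne' : (R : Subgroup N).map N.subtype ≠ ⊥ := fun e =>
    hRne ((Subgroup.map_eq_bot_iff_of_injective _ N.subtype_injective).1 e)
  have hn := CfsgLib.EvenType.normalizer_le_of_isStronglyPEmbedded hY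
    ((Subgroup.map_subtype_le _).trans hNY) (R.isPGroup'.map N.subtype) hRne'
  exact hY.2.1 (top_le_iff.1 ((Sylow.normalizer_sup_eq_top R).ge.trans (sup_le hn hNY)))

variable {Ω : Type*} [Group Ω]

theorem essential_eq {S : Subgroup Ω} [Finite S] (p : ℕ) [Fact p.Prime] (hS : IsPGroup p S)
    (Q : Subgroup Ω) (hQS : Q ≤ S) (hQ : Cfsg.IsExtraspecial p ↥Q) (hQi : (Q.subgroupOf S).index = p)
    (h6 : p ^ 6 ≤ Nat.card S) (F : Cfsg.FusionSystem S) (E : Subgroup Ω) (hEQ : E ≤ Q)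
    (hess : F.IsEssential p E) : E = Q := by
  have hp : p.Prime := Fact.out
  by_contra hne
  obtain ⟨q₀, hq₀, hq₀E⟩ : ∃ q ∈ Q, q ∉ E := by
    by_contra hc
    push Not at hc
    exact hne (le_antisymm hEQ hc)
  haveI := finite_of_le hQS
  have hES : E ≤ S := hess.1.1
  haveI := finite_of_le hES
  have hEp : IsPGroup p E := hS.to_le hES
  have hCE : centralizerIn S E ≤ E := centralizerIn_le_of_centric hess.1
  set ZQ : Subgroup Ω := Q ⊓ Subgroup.centralizer (Q : Set Ω) with hZQ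
  have hZQcard : Nat.card ZQ = p := by
    rw [hZQ, ← map_center, Subgroup.card_map_of_injective Q.subtype_injective, hQ.2]
  have hQQ : ⁅Q, Q⁆ = ZQ := by rw [← Q.map_subtype_commutator, hQ.1.2.2, map_center]
  have hZQc : ∀ z ∈ ZQ, ∀ a ∈ Q, a * z = z * a := fun z hz a ha =>
    Subgroup.mem_centralizer_iff.1 hz.2 a ha
  have hZE : ZQ ≤ E := fun z hz => hCE (mem_centralizerIn'.2 ⟨hQS hz.1, fun a ha => by
    rw [← hZQc z hz a (hEQ ha), mul_inv_cancel_right]⟩)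
  have hcomm : ∀ a ∈ Q, ∀ b ∈ Q, ⁅a, b⁆ ∈ ZQ := fun a ha b hb =>
    hQQ ▸ Subgroup.commutator_mem_commutator ha hb
  have hQn : Q ≤ Subgroup.normalizer (E : Set Ω) := by
    have key : ∀ q ∈ Q, ∀ x ∈ E, q * x * q⁻¹ ∈ E := fun q hq x hx => by
      rw [show q * x * q⁻¹ = ⁅q, x⁆ * x by rw [commutatorElement_def, inv_mul_cancel_right]]
      exact mul_mem (hZE (hcomm q hq x (hEQ hx))) hx
    intro q hq
    rw [Subgroup.mem_normalizer_iff]
    refine fun x => ⟨key q hq x, fun hx => ?_⟩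
    simpa [mul_assoc] using key q⁻¹ (inv_mem hq) _ hx
  let c : Q →* MulAut E := E.normalizerMonoidHom.comp (Subgroup.inclusion hQn)
  have hcval : ∀ (q : Q) (x : E), ((c q x : E) : Ω) = q * x * (q : Ω)⁻¹ := fun _ _ => rfl
  have hcF : ∀ q : Q, c q ∈ F.autGroup E := fun q =>
    autInducedBy_le_autGroup hES (mem_autInducedBy_iff.2 ⟨q, hQS q.2, hQn q.2, fun _ => rfl⟩)
  have hcInn : ∀ q : Q, c q ∈ Inn E → (q : Ω) ∈ E := by
    intro q hq
    rw [Inn_eq] at hq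
    obtain ⟨e, he, -, hev⟩ := mem_autInducedBy_iff.1 hq
    have h1 : e⁻¹ * (q : Ω) ∈ centralizerIn S E := by
      refine mem_centralizerIn'.2 ⟨mul_mem (inv_mem (hES he)) (hQS q.2), fun a ha => ?_⟩
      have h2 : (q : Ω) * a * (q : Ω)⁻¹ = e * a * e⁻¹ := (hcval q ⟨a, ha⟩).symm.trans (hev ⟨a, ha⟩)
      calc e⁻¹ * (q : Ω) * a * (e⁻¹ * (q : Ω))⁻¹ = e⁻¹ * ((q : Ω) * a * (q : Ω)⁻¹) * e := by group
        _ = a := by rw [h2]; group
    simpa using mul_mem he (hCE h1)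
  have hgen : ∀ z ∈ ZQ, z ≠ 1 → ∀ y ∈ ZQ, ∃ i : ℕ, z ^ i = y := by
    intro z hz hz1 y hy
    obtain ⟨k, hk⟩ := mem_powers_of_prime_card (G := ZQ) hZQcard (g := ⟨z, hz⟩) (g' := ⟨y, hy⟩)
      fun e => hz1 (congrArg Subtype.val e)
    exact ⟨k, congrArg Subtype.val hk⟩
  by_cases hab : ∀ a ∈ E, ∀ b ∈ E, a * b = b * a
  swap
  · -- the nonabelian case
    have hdle : ∀ x ∈ commutator ↥E, (x : Ω) ∈ ZQ := by
      intro x hx
      have h1 : (x : Ω) ∈ ⁅E, E⁆ := by rw [← E.map_subtype_commutator]; exact ⟨x, hx, rfl⟩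
      exact hQQ ▸ Subgroup.commutator_mono hEQ hEQ h1
    have hdeq : ∀ x : E, (x : Ω) ∈ ZQ → x ∈ commutator ↥E := by
      push Not at hab
      obtain ⟨a, ha, b, hb, hab'⟩ := hab
      intro x hx
      have hd : ⁅a, b⁆ ≠ 1 := fun e => hab' (commutatorElement_eq_one_iff_mul_comm.1 e)
      obtain ⟨i, hi⟩ := hgen _ (hcomm a (hEQ ha) b (hEQ hb)) hd x hx
      have h1 : (⁅(⟨a, ha⟩ : E), ⟨b, hb⟩⁆) ^ i = x := Subtype.ext hi
      rw [← h1]
      exact pow_mem (Subgroup.commutator_mem_commutator (Subgroup.mem_top _) (Subgroup.mem_top _)) i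
    let C : ℕ → Subgroup E := fun i => if i = 0 then ⊤ else if i = 1 then commutator ↥E else ⊥
    have hinv : ∀ α ∈ F.autGroup E, ∀ i, ∀ x ∈ C i, α x ∈ C i := by
      intro α _ i x hx
      match i with
      | 0 => trivial
      | 1 => exact (Subgroup.Characteristic.fixed (H := commutator ↥E) inferInstance α).ge hx
      | i + 2 =>
        show α x ∈ (⊥ : Subgroup E)
        rw [show x = 1 from hx, map_one]; exact one_mem _
    have hmem : (⟨c ⟨q₀, hq₀⟩, hcF _⟩ : F.autGroup E) ∈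
        CfsgLib.FusionEssential.stabChain (F.autGroup E) C 2 hinv := by
      intro i hi x hx
      obtain rfl | rfl : i = 0 ∨ i = 1 := by omega
      · show x⁻¹ * c ⟨q₀, hq₀⟩ x ∈ commutator ↥E
        refine hdeq _ ?_
        show (x : Ω)⁻¹ * (q₀ * x * q₀⁻¹) ∈ ZQ
        have hh := hcomm (x : Ω)⁻¹ (inv_mem (hEQ x.2)) q₀ hq₀
        rw [commutatorElement_def, inv_inv] at hh
        simpa [mul_assoc] using hh
      · show x⁻¹ * c ⟨q₀, hq₀⟩ x ∈ (⊥ : Subgroup E)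
        rw [Subgroup.mem_bot]
        refine Subtype.ext ?_
        show (x : Ω)⁻¹ * (q₀ * x * q₀⁻¹) = 1
        rw [hZQc x (hdle x hx) q₀ hq₀, mul_inv_cancel_right, inv_mul_cancel]
    exact hq₀E (hcInn ⟨q₀, hq₀⟩ (CfsgLib.FusionEssential.map_le_Inn hess
      CfsgLib.FusionEssential.stabChain_normal
      (CfsgLib.FusionEssential.stabChain_isPGroup hEp rfl rfl) ⟨_, hmem, rfl⟩))
  -- the abelian case
  set E' : Subgroup Q := E.subgroupOf Q
  have hcE' : Subgroup.centralizer (E' : Set Q) = E' := by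
    ext q
    rw [Subgroup.mem_centralizer_iff]
    constructor
    · intro h
      exact hCE (mem_centralizerIn'.2 ⟨hQS q.2, fun a ha => by
        show (q : Ω) * a * (q : Ω)⁻¹ = a
        rw [show (q : Ω) * a = a * q from (congrArg Subtype.val (h ⟨a, hEQ ha⟩ ha)).symm,
          mul_inv_cancel_right]⟩)
    · intro hq a ha
      exact Subtype.ext (hab a ha q hq)
  have hcen : Subgroup.center Q ≤ E' := fun z hz => hZE (by
    rw [hZQ, ← map_center]; exact ⟨z, hz, rfl⟩)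
  have hQ5 : p ^ 5 ≤ Nat.card Q := by
    have h1 := Subgroup.card_mul_index (Q.subgroupOf S)
    rw [hQi, Nat.card_congr (Subgroup.subgroupOfEquivOfLe hQS).toEquiv] at h1
    refine Nat.le_of_mul_le_mul_right ?_ hp.pos
    rw [h1, ← pow_succ]
    exact h6
  have hmiss : ∀ e : E, ∃ q ∈ Q, q ∉ E ∧ q * (e : Ω) = e * q := by
    intro e
    by_contra hc
    push Not at hc
    have hsub : Subgroup.centralizer ({(⟨e, hEQ e.2⟩ : Q)} : Set Q) ≤ E' := by
      intro q hq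
      by_contra hqE
      exact hc q q.2 hqE (congrArg Subtype.val (Subgroup.mem_centralizer_singleton_iff.1 hq))
    have h1 := CfsgLib.ExtraspecialBasic.card_le_mul_card_inf_centralizer hQ ⊤ ⟨e, hEQ e.2⟩
    rw [top_inf_eq, Subgroup.card_top] at h1
    have h2 : Nat.card Q ≤ p * Nat.card E' :=
      h1.trans (Nat.mul_le_mul_left p (Subgroup.card_le_of_le hsub))
    have h3 := CfsgLib.ExtraspecialBasic.card_centralizer_mul_card hQ hcen
    rw [hcE'] at h3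
    have h4 : Nat.card E' * Nat.card E' ≤ Nat.card E' * (p * p) := by
      rw [h3]
      exact (Nat.mul_le_mul_right p h2).trans (le_of_eq (by ring))
    have h5 : Nat.card E' ≤ p * p := Nat.le_of_mul_le_mul_left h4 Nat.card_pos
    have h7 : p ^ 5 ≤ p ^ 3 := (hQ5.trans h2).trans ((Nat.mul_le_mul_left p h5).trans (le_of_eq (by ring)))
    have := (Nat.pow_le_pow_iff_right hp.one_lt).1 h7
    omega
  obtain ⟨hn, Y, hY⟩ := hess.2.2
  haveI := hn
  let q := QuotientGroup.mk' ((Inn E).subgroupOf (F.autGroup E))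
  let c' : Q →* (F.autGroup E ⧸ (Inn E).subgroupOf (F.autGroup E)) :=
    q.comp (c.codRestrict _ hcF)
  have hc'ne : ∀ r : Q, (r : Ω) ∉ E → c' r ≠ 1 := fun r hr e =>
    hr (hcInn r ((QuotientGroup.eq_one_iff (N := (Inn E).subgroupOf (F.autGroup E)) _).1 e))
  set T := c'.range
  have hTp : IsPGroup p T := hQ.1.1.of_surjective c'.rangeRestrict c'.rangeRestrict_surjective
  have hTne : T ≠ ⊥ := fun e => hc'ne ⟨q₀, hq₀⟩ hq₀E (by
    rw [← Subgroup.mem_bot, ← e]; exact ⟨_, rfl⟩)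
  have hTcomm : ∀ r r' : Q, c' r * c' r' = c' r' * c' r := by
    intro r r'
    have hone : c' ⁅r, r'⁆ = 1 := by
      refine (QuotientGroup.eq_one_iff (N := (Inn E).subgroupOf (F.autGroup E)) _).2 ?_
      have h1 : c ⁅r, r'⁆ = 1 := MulEquiv.ext fun x => Subtype.ext (by
        rw [hcval]
        have hz : ((⁅r, r'⁆ : Q) : Ω) ∈ ZQ := hcomm r r.2 r' r'.2
        rw [← hZQc _ hz x (hEQ x.2), mul_inv_cancel_right]
        rfl)
      show c ⁅r, r'⁆ ∈ Inn E
      rw [h1]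
      exact one_mem _
    rw [map_commutatorElement] at hone
    exact commutatorElement_eq_one_iff_mul_comm.1 hone
  obtain ⟨z₀, hz₀, hz₀1⟩ : ∃ z ∈ ZQ, z ≠ 1 :=
    (Subgroup.bot_or_exists_ne_one _).resolve_left fun e => hp.ne_one (by
      rw [← hZQcard, e, Subgroup.card_bot])
  let z : E := ⟨z₀, hZE hz₀⟩
  -- two conjugates contain commuting nontrivial elements
  have hpair : ∀ γ δ : F.autGroup E, ∃ r r' : Q, (r : Ω) ∉ E ∧ (r' : Ω) ∉ E ∧
      (q γ * c' r * (q γ)⁻¹) * (q δ * c' r' * (q δ)⁻¹) =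
        (q δ * c' r' * (q δ)⁻¹) * (q γ * c' r * (q γ)⁻¹) := by
    intro γ δ
    obtain ⟨r, hr, hrE, hrfix⟩ := hmiss ((γ : MulAut E)⁻¹ ((δ : MulAut E) z))
    obtain ⟨r', hr', hr'E, hr'fix⟩ := hmiss ((δ : MulAut E)⁻¹ ((γ : MulAut E) z))
    refine ⟨⟨r, hr⟩, ⟨r', hr'⟩, hrE, hr'E, ?_⟩
    set u : MulAut E := (γ : MulAut E) * c ⟨r, hr⟩ * (γ : MulAut E)⁻¹
    set w : MulAut E := (δ : MulAut E) * c ⟨r', hr'⟩ * (δ : MulAut E)⁻¹
    have hshift : ∀ (r : Q) (x : E), ∃ i : ℕ, c r x = x * z ^ i := by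
      intro r x
      obtain ⟨i, hi⟩ := hgen z₀ hz₀ hz₀1 _ (hcomm r r.2 x (hEQ x.2))
      refine ⟨i, Subtype.ext ?_⟩
      show (r : Ω) * x * (r : Ω)⁻¹ = x * z₀ ^ i
      rw [hi, hZQc _ (hcomm r r.2 x (hEQ x.2)) x (hEQ x.2), commutatorElement_def,
        inv_mul_cancel_right]
    have hcz : ∀ r : Q, c r z = z := fun r => Subtype.ext (by
      show (r : Ω) * z₀ * (r : Ω)⁻¹ = z₀
      rw [hZQc z₀ hz₀ r r.2, mul_inv_cancel_right])
    have huw : u ((δ : MulAut E) z) = (δ : MulAut E) z := by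
      show (γ : MulAut E) (c ⟨r, hr⟩ ((γ : MulAut E)⁻¹ ((δ : MulAut E) z))) = _
      rw [show c ⟨r, hr⟩ ((γ : MulAut E)⁻¹ ((δ : MulAut E) z)) = (γ : MulAut E)⁻¹ ((δ : MulAut E) z)
        from Subtype.ext (mul_inv_eq_iff_eq_mul.2 hrfix), MulAut.apply_inv_self]
    have hwu : w ((γ : MulAut E) z) = (γ : MulAut E) z := by
      show (δ : MulAut E) (c ⟨r', hr'⟩ ((δ : MulAut E)⁻¹ ((γ : MulAut E) z))) = _
      rw [show c ⟨r', hr'⟩ ((δ : MulAut E)⁻¹ ((γ : MulAut E) z)) = (δ : MulAut E)⁻¹ ((γ : MulAut E) z)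
        from Subtype.ext (mul_inv_eq_iff_eq_mul.2 hr'fix), MulAut.apply_inv_self]
    have hux : ∀ x : E, ∃ i : ℕ, u x = x * ((γ : MulAut E) z) ^ i := by
      intro x
      obtain ⟨i, hi⟩ := hshift ⟨r, hr⟩ ((γ : MulAut E)⁻¹ x)
      refine ⟨i, ?_⟩
      show (γ : MulAut E) (c ⟨r, hr⟩ ((γ : MulAut E)⁻¹ x)) = _
      rw [hi, map_mul, map_pow, MulAut.apply_inv_self]
    have hwx : ∀ x : E, ∃ i : ℕ, w x = x * ((δ : MulAut E) z) ^ i := by
      intro x
      obtain ⟨i, hi⟩ := hshift ⟨r', hr'⟩ ((δ : MulAut E)⁻¹ x)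
      refine ⟨i, ?_⟩
      show (δ : MulAut E) (c ⟨r', hr'⟩ ((δ : MulAut E)⁻¹ x)) = _
      rw [hi, map_mul, map_pow, MulAut.apply_inv_self]
    have huwc : u * w = w * u := by
      refine MulEquiv.ext fun x => ?_
      obtain ⟨i, hi⟩ := hux x
      obtain ⟨j, hj⟩ := hwx x
      show u (w x) = w (u x)
      rw [hj, map_mul, map_pow, huw, hi, map_mul, map_pow, hwu, hj, mul_assoc, mul_assoc]
      congr 1
      exact Subtype.ext (hab _ (((γ : MulAut E) z) ^ i).2 _ (((δ : MulAut E) z) ^ j).2)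
    have e1 : q γ * c' ⟨r, hr⟩ * (q γ)⁻¹ = q (γ * ⟨c ⟨r, hr⟩, hcF _⟩ * γ⁻¹) := by
      rw [map_mul, map_mul, map_inv]; rfl
    have e2 : q δ * c' ⟨r', hr'⟩ * (q δ)⁻¹ = q (δ * ⟨c ⟨r', hr'⟩, hcF _⟩ * δ⁻¹) := by
      rw [map_mul, map_mul, map_inv]; rfl
    rw [e1, e2, ← map_mul, ← map_mul q (δ * ⟨c ⟨r', hr'⟩, hcF _⟩ * δ⁻¹)]
    exact congrArg q (Subtype.ext huwc)
  -- the property spreads over all conjugates
  haveI : Finite (F.autGroup E) := inferInstance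
  have hstep : ∀ γ δ : F.autGroup E, (∀ t ∈ T, q γ * t * (q γ)⁻¹ ∈ Y) →
      ∀ t ∈ T, q δ * t * (q δ)⁻¹ ∈ Y := by
    intro γ δ h t ht
    obtain ⟨r, r', hr, hr', hcom⟩ := hpair γ δ
    set u := q γ * c' r * (q γ)⁻¹
    set w := q δ * c' r' * (q δ)⁻¹
    have key : ∀ (X : Subgroup (F.autGroup E ⧸ (Inn E).subgroupOf (F.autGroup E)))
        (a b : F.autGroup E ⧸ (Inn E).subgroupOf (F.autGroup E)), X = Subgroup.zpowers a →
        IsPGroup p X → a ∈ Y → a ≠ 1 → a * b = b * a → b ∈ Y := by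
      intro X a b hX hXp haY ha1 hab'
      refine CfsgLib.EvenType.normalizer_le_of_isStronglyPEmbedded hY
        (hX ▸ Subgroup.zpowers_le.2 haY) hXp (hX ▸ fun e => ha1 (Subgroup.zpowers_eq_bot.1 e)) ?_
      subst hX
      refine Subgroup.centralizer_le_normalizer _ (Subgroup.mem_centralizer_iff.2 ?_)
      rintro _ ⟨i, rfl⟩
      exact ((show Commute a b from hab').zpow_left i).eq
    have hpg : ∀ (x : F.autGroup E) (s : Q), IsPGroup p (Subgroup.zpowers (q x * c' s * (q x)⁻¹)) :=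
      fun x s => (hTp.map (MulAut.conj (q x)).toMonoidHom).to_le
        (Subgroup.zpowers_le.2 ⟨c' s, ⟨s, rfl⟩, rfl⟩)
    have hne1 : ∀ (x : F.autGroup E) (s : Q), (s : Ω) ∉ E → q x * c' s * (q x)⁻¹ ≠ 1 :=
      fun x s hs e => hc'ne s hs (by
        rwa [mul_inv_eq_one, mul_eq_left] at e)
    have hwY : w ∈ Y := key _ u w rfl (hpg γ r) (h _ ⟨r, rfl⟩) (hne1 γ r hr) hcom
    obtain ⟨s, rfl⟩ := ht
    refine key _ w _ rfl (hpg δ r') hwY (hne1 δ r' hr') ?_
    show q δ * c' r' * (q δ)⁻¹ * (q δ * c' s * (q δ)⁻¹) =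
      q δ * c' s * (q δ)⁻¹ * (q δ * c' r' * (q δ)⁻¹)
    rw [conj_mul, hTcomm, ← conj_mul]
  obtain ⟨P, -, hPY, -⟩ := CfsgLib.EvenType.exists_sylow_le_of_isStronglyPEmbedded hY
  obtain ⟨R, hR⟩ := hTp.exists_le_sylow
  obtain ⟨g, hg⟩ := MulAction.exists_smul_eq (F.autGroup E ⧸ (Inn E).subgroupOf (F.autGroup E)) R P
  obtain ⟨γ, rfl⟩ := QuotientGroup.mk'_surjective _ g
  have hbase : ∀ t ∈ T, q γ * t * (q γ)⁻¹ ∈ Y := by
    intro t ht
    refine hPY ?_
    rw [← hg, Sylow.coe_subgroup_smul]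
    exact ⟨t, hR ht, rfl⟩
  refine false_of_conjugates_le hY hTp hTne fun x t ht => ?_
  obtain ⟨δ, rfl⟩ := QuotientGroup.mk'_surjective _ x
  exact hstep γ δ hbase t ht

end CfsgLib.FusionExtraspecial
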